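import Mathlib

/-!
# The functor of cones over a diagram of schemes is a Zariski sheaf (helper19)
-/

set_option autoImplicit false

universe u

open CategoryTheory Limits AlgebraicGeometry Opposite

namespace Groth.Agent.Helper19.AffLim

variable {I : Type u} [SmallCategory I] (D : I ⥤ Scheme.{u})

theorem isSheafFor_yoneda (X : Scheme.{u}) {T : Scheme.{u}} (R : Sieve T)
    (hR : R ∈ Scheme.zariskiTopology T) : Presieve.IsSheafFor (yoneda.obj X) R.arrows :=
  (GrothendieckTopology.Subcanonical.isSheaf_of_isRepresentable (J := Scheme.zariskiTopology)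
      (yoneda.obj X)) R hR

/-- `D.cones` is a Zariski sheaf. -/
theorem isSheaf_cones : Presheaf.IsSheaf Scheme.zariskiTopology D.cones := by
  rw [isSheaf_iff_isSheaf_of_type]
  intro T R hR x hx
  let xj : ∀ j, Presieve.FamilyOfElements (yoneda.obj (D.obj j)) R.arrows :=
    fun j V f hf => (x f hf).app j
  have hxj : ∀ j, (xj j).Compatible := by
    intro j V₁ V₂ W g₁ g₂ f₁ f₂ h₁ h₂ e
    have := congrArg (fun t => NatTrans.app t j) (hx g₁ g₂ h₁ h₂ e)
    simpa using this
  have key : ∀ j, ∃! t : T ⟶ D.obj j, ∀ (V : Scheme.{u}) (f : V ⟶ T) (hf : R.arrows f),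
      f ≫ t = (x f hf).app j := by
    intro j
    obtain ⟨t, ht, hu⟩ := isSheafFor_yoneda (D.obj j) R hR (xj j) (hxj j)
    refine ⟨t, fun V f hf => ?_, fun t' ht' => hu t' (fun V f hf => ?_)⟩
    · have := ht f hf
      simpa using this
    · have := ht' V f hf
      simpa [xj] using this
  choose t ht hu using key
  refine ⟨{ app := t, naturality := ?_ }, ?_, ?_⟩
  · intro j k φ
    have e1 : t j ≫ D.map φ = t k := by
      refine hu k _ (fun V f hf => ?_)
      rw [← Category.assoc, ht j V f hf]
      have := (x f hf).naturality φ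
      simpa using this.symm
    show 𝟙 T ≫ t k = t j ≫ D.map φ
    rw [e1, Category.id_comp]
  · intro V f hf
    apply NatTrans.ext
    funext j
    exact ht j V f hf
  · intro t' ht'
    apply NatTrans.ext
    funext j
    refine hu j _ (fun V f hf => ?_)
    have := congrArg (fun s => NatTrans.app s j) (ht' f hf)
    exact this

end Groth.Agent.Helper19.AffLim
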