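import Mathlib
import Groth.Agent.Lib.Helper19.AffLim.Sheaf

/-!
# Charts for the functor of cones over a cofiltered diagram with affine transition maps (helper19)
-/

set_option autoImplicit false

universe u

open CategoryTheory Limits AlgebraicGeometry Opposite

namespace Groth.Agent.Helper19.AffLim

/-- a small diagram of affine schemes has a limit in the category of schemes. -/
theorem hasLimit_of_isAffine {J : Type u} [SmallCategory J] (G : J ⥤ Scheme.{u})
    [∀ j, IsAffine (G.obj j)] : HasLimit G := by
  let α : G ⟶ (G ⋙ Scheme.Γ.rightOp) ⋙ Scheme.Spec := G.whiskerLeft ΓSpec.adjunction.unit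
  have (i : J) : IsIso (α.app i) := IsAffine.affine
  have : IsIso α := NatIso.isIso_of_isIso_app α
  have : HasLimit ((G ⋙ Scheme.Γ.rightOp) ⋙ Scheme.Spec) :=
    ⟨⟨⟨Scheme.Spec.mapCone (limit.cone _), isLimitOfPreserves Scheme.Spec (limit.isLimit _)⟩⟩⟩
  exact hasLimit_of_iso (asIso α).symm

variable {I : Type u} [SmallCategory I] [IsCofiltered I] (D : I ⥤ Scheme.{u}) (i₀ : I)

/-- a cone over the restricted diagram gives a cone over the whole diagram. -/
noncomputable def extCone (U : (D.obj i₀).Opens) (s : Cone (opensDiagram D i₀ U)) : Cone D :=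
  (Functor.Initial.extendCone (F := Over.forget i₀)).obj
    ((Cone.postcompose (opensDiagramι D i₀ U)).obj s)

theorem extCone_π_app (U : (D.obj i₀).Opens) (s : Cone (opensDiagram D i₀ U)) (j : Over i₀) :
    (extCone D i₀ U s).π.app j.left = s.π.app j ≫ (D.map j.hom ⁻¹ᵁ U).ι := by
  have := Functor.Initial.extendCone_obj_π_app' (F := Over.forget i₀) (G := D)
    ((Cone.postcompose (opensDiagramι D i₀ U)).obj s) (X := j) (Y := j.left) (𝟙 j.left)
  refine this.trans ?_
  have e : D.map (𝟙 j.left) = 𝟙 _ := D.map_id _
  erw [e, Category.comp_id]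

/-- natural transformations to `D` from a constant functor are determined on the objects over `i₀`. -/
theorem cone_π_ext {T : Scheme.{u}} (a b : (Functor.const I).obj T ⟶ D)
    (h : ∀ j : Over i₀, a.app j.left = b.app j.left) : a = b := by
  apply NatTrans.ext
  funext i
  have ha := a.naturality (IsCofiltered.minToRight i₀ i)
  have hb := b.naturality (IsCofiltered.minToRight i₀ i)
  simp only [Functor.const_obj_obj, Functor.const_obj_map, Category.id_comp] at ha hb
  rw [ha, hb]
  exact congrArg (· ≫ _) (h (Over.mk (IsCofiltered.minToLeft i₀ i)))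

end Groth.Agent.Helper19.AffLim
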