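import Mathlib
import Groth.Agent.Lib.Helper19.AffLim.Charts

/-!
# Representability of the functor of cones (helper19)
-/

set_option autoImplicit false
set_option backward.isDefEq.respectTransparency false

universe u

open CategoryTheory Limits AlgebraicGeometry Opposite

namespace Groth.Agent.Helper19.AffLim

variable {I : Type u} [SmallCategory I] [IsCofiltered I] (D : I ⥤ Scheme.{u})
  [∀ {i j : I} (f : i ⟶ j), IsAffineHom (D.map f)] (i₀ : I)

instance isAffine_opensDiagram_obj (U : (D.obj i₀).affineOpens) (j : Over i₀) :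
    IsAffine ((opensDiagram D i₀ U.1).obj j) := U.2.preimage (D.map j.hom)

instance hasLimit_opensDiagram (U : (D.obj i₀).affineOpens) : HasLimit (opensDiagram D i₀ U.1) :=
  hasLimit_of_isAffine _

/-- the chart over the affine open `U` of `D.obj i₀`. -/
noncomputable abbrev chart (U : (D.obj i₀).affineOpens) : Scheme.{u} := limit (opensDiagram D i₀ U.1)

/-- the cone over `D` with point the chart. -/
noncomputable def chartCone (U : (D.obj i₀).affineOpens) : Cone D :=
  extCone D i₀ U.1 (limit.cone (opensDiagram D i₀ U.1))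

/-- the chart as a map of presheaves. -/
noncomputable def chartMap (U : (D.obj i₀).affineOpens) : yoneda.obj (chart D i₀ U) ⟶ D.cones :=
  yonedaEquiv.symm (chartCone D i₀ U).π

theorem chartMap_app {W : Scheme.{u}} (U : (D.obj i₀).affineOpens) (v : W ⟶ chart D i₀ U) (j : Over i₀) :
    ((chartMap D i₀ U).app (op W) v).app j.left =
      v ≫ limit.π (opensDiagram D i₀ U.1) j ≫ (D.map j.hom ⁻¹ᵁ U.1).ι := by
  have h1 : (chartMap D i₀ U).app (op W) v = D.cones.map v.op (chartCone D i₀ U).π :=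
    rfl
  rw [h1]
  show v ≫ (chartCone D i₀ U).π.app j.left = _
  have h2 : (chartCone D i₀ U).π.app j.left =
      limit.π (opensDiagram D i₀ U.1) j ≫ (D.map j.hom ⁻¹ᵁ U.1).ι :=
    extCone_π_app D i₀ U.1 (limit.cone (opensDiagram D i₀ U.1)) j
  rw [h2]


theorem cones_map_app {T W : Scheme.{u}} (w : W ⟶ T) (t : D.cones.obj (op T)) (i : I) :
    (D.cones.map w.op t).app i = w ≫ t.app i := rfl

theorem isPullback_chart (U : (D.obj i₀).affineOpens) (c : Cone D)
    (g : yoneda.obj c.pt ⟶ D.cones) (hgc : g = yonedaEquiv.symm c.π) :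
    IsPullback (yoneda.map (limit.lift _ (opensCone D c i₀ U.1)))
      (yoneda.map (c.π.app i₀ ⁻¹ᵁ U.1).ι) (chartMap D i₀ U) g := by
  subst hgc
  have hg : ∀ {W : Scheme.{u}} (w : W ⟶ c.pt),
      (yonedaEquiv.symm c.π).app (op W) w = D.cones.map w.op c.π := fun w => rfl
  apply IsPullback.of_forall_isPullback_app
  intro W'
  obtain ⟨W⟩ := W'
  rw [Types.isPullback_iff]
  refine ⟨?_, ?_, ?_⟩
  · ext y
    show (chartMap D i₀ U).app (op W) (y ≫ limit.lift _ (opensCone D c i₀ U.1)) =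
      D.cones.map (y ≫ (c.π.app i₀ ⁻¹ᵁ U.1).ι).op c.π
    apply cone_π_ext D i₀
    intro j
    rw [chartMap_app, cones_map_app]
    rw [Category.assoc, limit.lift_π_assoc]
    simp only [Category.assoc, opensCone_π_app]
    congr 1
    exact Scheme.Hom.resLE_comp_ι _ _
  · rintro (x₁ : W ⟶ _) (y₁ : W ⟶ _) ⟨-, h2⟩
    have h2' : x₁ ≫ (c.π.app i₀ ⁻¹ᵁ U.1).ι = y₁ ≫ (c.π.app i₀ ⁻¹ᵁ U.1).ι := h2
    exact (cancel_mono _).1 h2'
  · rintro (v : W ⟶ chart D i₀ U) (w : W ⟶ c.pt) h
    have hj : ∀ j : Over i₀, v ≫ limit.π (opensDiagram D i₀ U.1) j ≫ (D.map j.hom ⁻¹ᵁ U.1).ι =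
        w ≫ c.π.app j.left := by
      intro j
      have := congrArg (fun t => NatTrans.app t j.left) h
      simp only at this
      rw [chartMap_app] at this
      exact this
    have hrange : Set.range w ⊆ Set.range (c.π.app i₀ ⁻¹ᵁ U.1).ι := by
      rintro _ ⟨x, rfl⟩
      rw [Scheme.Opens.range_ι]
      show c.π.app i₀ (w x) ∈ U.1
      have h0 := hj (Over.mk (𝟙 i₀))
      have h1 : c.π.app i₀ (w x) = (w ≫ c.π.app i₀) x := by simp
      rw [h1]
      have h2 : w ≫ c.π.app i₀ = v ≫ limit.π (opensDiagram D i₀ U.1) (Over.mk (𝟙 i₀)) ≫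
          (D.map (Over.mk (𝟙 i₀)).hom ⁻¹ᵁ U.1).ι := h0.symm
      rw [h2]
      have h3 := ((v ≫ limit.π (opensDiagram D i₀ U.1) (Over.mk (𝟙 i₀))) x).2
      have h4 : D.map (𝟙 i₀) = 𝟙 _ := D.map_id _
      have h6 : (D.map (𝟙 i₀)) ((v ≫ limit.π (opensDiagram D i₀ U.1) (Over.mk (𝟙 i₀))) x).1 ∈ U.1 := h3
      rw [h4] at h6
      exact h6
    refine ⟨IsOpenImmersion.lift (c.π.app i₀ ⁻¹ᵁ U.1).ι w hrange, ?_, ?_⟩
    · show IsOpenImmersion.lift (c.π.app i₀ ⁻¹ᵁ U.1).ι w hrange ≫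
        limit.lift _ (opensCone D c i₀ U.1) = v
      apply limit.hom_ext
      intro j
      rw [Category.assoc, limit.lift_π, ← cancel_mono (D.map j.hom ⁻¹ᵁ U.1).ι, Category.assoc,
        Category.assoc, hj j]
      simp only [opensCone_π_app]
      have e := Scheme.Hom.resLE_comp_ι (c.π.app j.left) (U := D.map j.hom ⁻¹ᵁ U.1)
        (V := c.π.app i₀ ⁻¹ᵁ U.1) (by rw [← Scheme.Hom.comp_preimage, c.w])
      rw [e, IsOpenImmersion.lift_fac_assoc]
    · show IsOpenImmersion.lift (c.π.app i₀ ⁻¹ᵁ U.1).ι w hrange ≫ (c.π.app i₀ ⁻¹ᵁ U.1).ι = w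
      exact IsOpenImmersion.lift_fac _ _ _

theorem chartMap_isOpenImmersion (U : (D.obj i₀).affineOpens) :
    MorphismProperty.presheaf @IsOpenImmersion (chartMap D i₀ U) := by
  apply MorphismProperty.relative.of_exists
  intro T g
  have h := isPullback_chart D i₀ U ⟨T, yonedaEquiv g⟩ g (Equiv.symm_apply_apply _ g).symm
  exact ⟨_, _, _, h, inferInstance⟩

end Groth.Agent.Helper19.AffLim
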