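import Mathlib
import Groth.Agent.Lib.Helper19.AffLim.Rep

/-!
# Existence of cofiltered limits of schemes with affine transition maps (helper19)
-/

set_option autoImplicit false
set_option backward.isDefEq.respectTransparency false

universe u

open CategoryTheory Limits AlgebraicGeometry Opposite

namespace Groth.Agent.Helper19.AffLim

variable {I : Type u} [SmallCategory I] [IsCofiltered I] (D : I ⥤ Scheme.{u})
  [∀ {i j : I} (f : i ⟶ j), IsAffineHom (D.map f)] (i₀ : I)

instance isLocallySurjective_chartMap :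
    Presheaf.IsLocallySurjective Scheme.zariskiTopology (Sigma.desc (chartMap D i₀)) where
  imageSieve_mem {T} s := by
    let c : Cone D := ⟨T, s⟩
    have hcov : TopologicalSpace.IsOpenCover (fun U : (D.obj i₀).affineOpens => c.π.app i₀ ⁻¹ᵁ U.1) := by
      show ⨆ U : (D.obj i₀).affineOpens, c.π.app i₀ ⁻¹ᵁ U.1 = ⊤
      rw [← Scheme.Hom.preimage_iSup, iSup_affineOpens_eq_top]
      rfl
    let 𝒰 := T.openCoverOfIsOpenCover _ hcov
    refine Scheme.zariskiTopology.superset_covering ?_ 𝒰.mem_grothendieckTopology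
    rw [Sieve.ofArrows, Sieve.generate_le_iff]
    rintro _ _ ⟨U⟩
    have h := (isPullback_chart D i₀ U c (yonedaEquiv.symm c.π) rfl).w
    have h2 := congrArg (fun t => t.app (op (c.π.app i₀ ⁻¹ᵁ U.1).toScheme)
      (𝟙 (c.π.app i₀ ⁻¹ᵁ U.1).toScheme)) h
    refine ⟨(Sigma.ι (fun U => yoneda.obj (chart D i₀ U)) U).app _
      (limit.lift _ (opensCone D c i₀ U.1)), ?_⟩
    have h3 : (Sigma.desc (chartMap D i₀)).app (op (c.π.app i₀ ⁻¹ᵁ U.1).toScheme)
        ((Sigma.ι (fun U => yoneda.obj (chart D i₀ U)) U).app _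
          (limit.lift _ (opensCone D c i₀ U.1))) =
        (Sigma.ι (fun U => yoneda.obj (chart D i₀ U)) U ≫ Sigma.desc (chartMap D i₀)).app
          (op (c.π.app i₀ ⁻¹ᵁ U.1).toScheme) (limit.lift _ (opensCone D c i₀ U.1)) := rfl
    rw [Sigma.ι_desc] at h3
    refine h3.trans ?_
    have h4 : (chartMap D i₀ U).app (op (c.π.app i₀ ⁻¹ᵁ U.1).toScheme)
        (𝟙 _ ≫ limit.lift _ (opensCone D c i₀ U.1)) =
        (yonedaEquiv.symm c.π).app (op (c.π.app i₀ ⁻¹ᵁ U.1).toScheme)
          (𝟙 _ ≫ (c.π.app i₀ ⁻¹ᵁ U.1).ι) := h2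
    rw [Category.id_comp, Category.id_comp] at h4
    exact h4


/-- the functor of cones over `D` is representable. -/
theorem isRepresentable_cones : D.cones.IsRepresentable := by
  obtain ⟨i₀⟩ := IsCofiltered.nonempty (C := I)
  let F : Sheaf Scheme.zariskiTopology (Type u) := ⟨D.cones, isSheaf_cones D⟩
  exact Scheme.LocalRepresentability.isRepresentable (F := F) (f := chartMap D i₀)
    (fun U => chartMap_isOpenImmersion D i₀ U)

/-- a cofiltered diagram of schemes with affine transition maps has a limit, with affine projections. -/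
theorem exists_limit_affine :
    ∃ (c : Cone D) (_ : IsLimit c), ∀ i, IsAffineHom (c.π.app i) := by
  obtain ⟨X, ⟨h⟩⟩ := (isRepresentable_cones D).has_representation
  exact ⟨_, IsLimit.ofRepresentableBy h, fun i => isAffineHom_π_app D _ (IsLimit.ofRepresentableBy h) i⟩

end Groth.Agent.Helper19.AffLim
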